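import Groth.Agent.S16576
import Groth.Agent.Lib.Branch14.Completion
import Groth.Agent.Lib.Branch14.FlatMono
import Groth.Agent.Lib.UCat.Flat
import Groth.Agent.Lib.UCat.Completion
import Groth.Agent.Lib.Ratliff.Main
import Groth.Agent.Lib.Hens.Noetherian
import Groth.Agent.Lib.Hens.Henselization
import Mathlib

/-! # Immediate étale generizations of the closed point and completion -/

set_option autoImplicit false
universe u
set_option backward.isDefEq.respectTransparency.types false
set_option maxSynthPendingDepth 3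
set_option linter.style.haveILetI false

open IsLocalRing

namespace Groth.Agent.ImmGen6

section Flat

variable {A B : Type u} [CommRing A] [CommRing B] [Algebra A B] [Module.Flat A B]

theorem comap_mem_minimalPrimes (I : Ideal A) {Q : Ideal B}
    (hQ : Q ∈ (I.map (algebraMap A B)).minimalPrimes) : Q.comap (algebraMap A B) ∈ I.minimalPrimes := by
  haveI := hQ.1.1
  refine ⟨⟨inferInstance, Ideal.map_le_iff_le_comap.mp hQ.1.2⟩, fun J hJ hle => ?_⟩
  haveI := hJ.1
  obtain ⟨Q₁, hQ₁, hQ₁p, hQ₁o⟩ := Ideal.exists_ideal_le_liesOver_of_le (R := A) (S := B) (p := J)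
    (q := Q.comap (algebraMap A B)) Q hle
  haveI := hQ₁p
  have h1 : I.map (algebraMap A B) ≤ Q₁ := Ideal.map_le_iff_le_comap.mpr (hJ.2.trans hQ₁o.over.le)
  have h2 : Q ≤ Q₁ := hQ.2 ⟨hQ₁p, h1⟩ hQ₁
  rw [hQ₁o.over]
  exact Ideal.comap_mono h2

theorem mem_minimalPrimes_trans {I P : Ideal A} (hP : P ∈ I.minimalPrimes) {Q : Ideal B}
    (hQ : Q ∈ (P.map (algebraMap A B)).minimalPrimes) : Q ∈ (I.map (algebraMap A B)).minimalPrimes := by
  haveI := hP.1.1
  have hQP : Q.comap (algebraMap A B) = P := by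
    have h := comap_mem_minimalPrimes P hQ
    rw [Ideal.minimalPrimes_eq_subsingleton_self] at h
    exact h
  refine ⟨⟨hQ.1.1, (Ideal.map_mono hP.1.2).trans hQ.1.2⟩, fun J hJ hle => ?_⟩
  haveI := hJ.1
  refine hQ.2 ⟨hJ.1, Ideal.map_le_iff_le_comap.mpr ?_⟩ hle
  exact hP.2 ⟨inferInstance, Ideal.map_le_iff_le_comap.mp hJ.2⟩ ((Ideal.comap_mono hle).trans hQP.le)

end Flat

theorem one_le_dim {R : Type u} [CommRing R] [IsLocalRing R] {P : Ideal R} [P.IsPrime] (h : P ≠ maximalIdeal R) :
    1 ≤ ringKrullDim (R ⧸ P) := by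
  rw [ringKrullDim_quotient]
  haveI : Nontrivial ↥(PrimeSpectrum.zeroLocus (P : Set R)) := ⟨⟨⟨P, ‹_›⟩, le_refl (P : Set R)⟩,
    ⟨closedPoint R, le_maximalIdeal ‹P.IsPrime›.ne_top⟩, fun e => h (congrArg (fun x => x.1.asIdeal) e)⟩
  refine Order.one_le_krullDim_iff.mpr ⟨⟨⟨P, ‹_›⟩, le_refl (P : Set R)⟩,
    ⟨closedPoint R, le_maximalIdeal ‹P.IsPrime›.ne_top⟩, ?_⟩
  exact lt_of_le_of_ne (le_maximalIdeal ‹P.IsPrime›.ne_top) fun e => h (congrArg (fun x => x.1.asIdeal) e)

theorem dim_quotient_maximal (R : Type u) [CommRing R] [IsLocalRing R] : ringKrullDim (R ⧸ maximalIdeal R) = 0 :=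
  ringKrullDim_eq_zero_of_isField ((Ideal.Quotient.maximal_ideal_iff_isField_quotient _).mp inferInstance)

theorem ne_maximal_of_dim_eq_one {R : Type u} [CommRing R] [IsLocalRing R] {P : Ideal R}
    (h : ringKrullDim (R ⧸ P) = 1) : P ≠ maximalIdeal R := fun e => by
  subst e
  rw [dim_quotient_maximal] at h
  exact one_ne_zero h.symm

theorem dim_le_one_or_two_le {R : Type u} [CommRing R] [IsLocalRing R] [IsNoetherianRing R] (P : Ideal R) [P.IsPrime] :
    ringKrullDim (R ⧸ P) ≤ 1 ∨ (2 : WithBot ℕ∞) ≤ ringKrullDim (R ⧸ P) := by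
  cases hd : ringKrullDim (R ⧸ P) with
  | bot => exact Or.inl bot_le
  | coe a =>
    cases a with
    | top => exact Or.inr le_top
    | coe d =>
      rcases Nat.lt_or_ge d 2 with h | h
      · exact Or.inl (by norm_cast; omega)
      · exact Or.inr (WithBot.coe_le_coe.mpr (Nat.cast_le.mpr h : ((2 : ℕ) : ℕ∞) ≤ (d : ℕ∞)))

section Local

variable {A B : Type u} [CommRing A] [CommRing B] [IsNoetherianRing A] [IsNoetherianRing B] [IsLocalRing A]
  [IsLocalRing B] [Algebra A B] [IsLocalHom (algebraMap A B)] [Module.Flat A B]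

theorem dim_quotient_map_eq (hm : (maximalIdeal A).map (algebraMap A B) = maximalIdeal B) (I : Ideal A) (hI : I ≠ ⊤) :
    ringKrullDim (B ⧸ I.map (algebraMap A B)) = ringKrullDim (A ⧸ I) := by
  rw [UCat.dim_quotient_map I hI]
  have : ringKrullDim (EGA4.FibRing A B) = 0 := by
    refine ringKrullDim_eq_zero_of_isField ((Ideal.Quotient.maximal_ideal_iff_isField_quotient _).mp ?_)
    rw [show EGA4.mB A B = maximalIdeal B from hm]
    infer_instance
  rw [this, add_zero]

/-- Components of dimension one go up along flat local maps with trivial closed fibre. -/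
theorem dim_eq_one_up (hm : (maximalIdeal A).map (algebraMap A B) = maximalIdeal B) {p : Ideal A} [p.IsPrime]
    (h : ringKrullDim (A ⧸ p) = 1) :
    ∃ Q ∈ (p.map (algebraMap A B)).minimalPrimes, ringKrullDim (B ⧸ Q) = 1 := by
  obtain ⟨Q, hQ⟩ := UCat.exists_minimalPrime_map (B := B) p Ideal.IsPrime.ne_top'
  haveI := hQ.1.1
  refine ⟨Q, hQ, le_antisymm ?_ (one_le_dim fun e => ne_maximal_of_dim_eq_one h ?_)⟩
  · rw [← h, ← dim_quotient_map_eq hm p Ideal.IsPrime.ne_top']
    exact ringKrullDim_le_of_surjective (Ideal.Quotient.factor hQ.1.2) (Ideal.Quotient.factor_surjective _)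
  · have h1 := comap_mem_minimalPrimes p hQ
    rw [Ideal.minimalPrimes_eq_subsingleton_self,
      Set.mem_singleton_iff, e, IsLocalRing.maximalIdeal_comap] at h1
    exact h1.symm

/-- Over a complete local ring, components of dimension at least two stay so. -/
theorem two_le_up [IsAdicComplete (maximalIdeal A) A] {q : Ideal A} [q.IsPrime]
    (h : (2 : WithBot ℕ∞) ≤ ringKrullDim (A ⧸ q)) {Q : Ideal B} (hQ : Q ∈ (q.map (algebraMap A B)).minimalPrimes) :
    (2 : WithBot ℕ∞) ≤ ringKrullDim (B ⧸ Q) := by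
  obtain ⟨hl, hc⟩ := CplDomain.completeLocal_of_finite A (A ⧸ q)
  let D := B ⧸ q.map (algebraMap A B)
  haveI : Nontrivial D := Ideal.Quotient.nontrivial_iff.mpr (UCat.map_ne_top Ideal.IsPrime.ne_top')
  haveI : IsLocalRing D := IsLocalRing.of_surjective' _ Ideal.Quotient.mk_surjective
  haveI : Module.Flat (A ⧸ q) D := Branch14.flat_quotient (B := B) q
  haveI : IsLocalHom (algebraMap (A ⧸ q) D) := ⟨fun x hx => by
    obtain ⟨a, rfl⟩ := Ideal.Quotient.mk_surjective x
    haveI : IsLocalHom (Ideal.Quotient.mk (q.map (algebraMap A B))) := IsLocalHom.of_surjective _ Ideal.Quotient.mk_surjective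
    exact ((isUnit_of_map_unit _ _ (isUnit_of_map_unit (Ideal.Quotient.mk (q.map (algebraMap A B)))
      (algebraMap A B a) hx) : IsUnit a)).map _⟩
  have hC : ∀ p ∈ minimalPrimes (A ⧸ q), (2 : WithBot ℕ∞) ≤ ringKrullDim ((A ⧸ q) ⧸ p) := fun p hp => by
    rw [IsDomain.minimalPrimes_eq_singleton_bot, Set.mem_singleton_iff] at hp
    subst hp
    rwa [ringKrullDim_eq_of_ringEquiv (RingEquiv.quotientBot (A ⧸ q))]
  have hQ' : Q.map (Ideal.Quotient.mk (q.map (algebraMap A B))) ∈ minimalPrimes D := by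
    rw [show minimalPrimes D = (⊥ : Ideal D).minimalPrimes from rfl, ← Ideal.map_quotient_self (q.map (algebraMap A B)),
      Ideal.minimalPrimes_map_of_surjective Ideal.Quotient.mk_surjective, Ideal.mk_ker, sup_idem]
    exact ⟨Q, hQ, rfl⟩
  have h2 := Groth.Agent.S16576.dim_ge hC _ hQ'
  rwa [ringKrullDim_eq_of_ringEquiv (DoubleQuot.quotQuotEquivQuotOfLE hQ.1.2)] at h2

end Local

/-- A one-dimensional component of the completion is alone over its contraction. -/
theorem exists_henselian_prime (A : Type u) [CommRing A] [IsLocalRing A] [IsNoetherianRing A] (p : Ideal A)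
    (q : Ideal (AdicCompletion (maximalIdeal A) A))
    (hq : q ∈ (p.map (algebraMap A (AdicCompletion (maximalIdeal A) A))).minimalPrimes)
    (hdim : ringKrullDim (AdicCompletion (maximalIdeal A) A ⧸ q) = 1) :
    ∃ q' : Ideal (Hens.Hh A), q' ∈ (p.map (algebraMap A (Hens.Hh A))).minimalPrimes ∧
      ringKrullDim (Hens.Hh A ⧸ q') = 1 := by
  haveI : HenselianLocalRing (AdicCompletion (maximalIdeal A) A) := Branch14.henselianLocalRing_cpl A
  haveI : IsNoetherianRing (AdicCompletion (maximalIdeal A) A) := CplLocH7.isNoetherianRing_cpl A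
  haveI hl : IsLocalHom (algebraMap A (AdicCompletion (maximalIdeal A) A)) := UCat.isLocalHom_cpl A
  obtain ⟨ψ, -, -⟩ := Hens.existsUnique_hh_lift (R := A) (AdicCompletion (maximalIdeal A) A)
  obtain ⟨hflat, hlh, hN, hm, hsurj⟩ := Branch14.cpl_hyps A (Hens.Hh A) ψ.toRingHom ψ.comp_algebraMap
  let T := AdicCompletion (maximalIdeal A) A
  letI : Algebra (Hens.Hh A) T := ψ.toRingHom.toAlgebra
  haveI : Module.Flat (Hens.Hh A) T := hflat
  haveI : IsLocalHom (algebraMap (Hens.Hh A) T) := hlh
  haveI : IsScalarTower A (Hens.Hh A) T := IsScalarTower.of_algebraMap_eq fun a => (ψ.commutes a).symm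
  haveI := hq.1.1
  have hpq : (p.map (algebraMap A (Hens.Hh A))).map (algebraMap (Hens.Hh A) T) = p.map (algebraMap A T) := by
    rw [Ideal.map_map, ← IsScalarTower.algebraMap_eq]
  have hq' : q ∈ ((p.map (algebraMap A (Hens.Hh A))).map (algebraMap (Hens.Hh A) T)).minimalPrimes := hpq ▸ hq
  let q' := q.comap (algebraMap (Hens.Hh A) T)
  have hmin := comap_mem_minimalPrimes _ hq'
  refine ⟨q', hmin, ?_⟩
  have hqI : q'.map (algebraMap (Hens.Hh A) T) ≤ q := Ideal.map_comap_le
  have hqmin : q ∈ (q'.map (algebraMap (Hens.Hh A) T)).minimalPrimes :=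
    ⟨⟨inferInstance, hqI⟩, fun J hJ hle => hq'.2 ⟨hJ.1, (Ideal.map_mono hmin.1.2).trans hJ.2⟩ hle⟩
  have hup : ∀ P : Ideal T, P.IsPrime → q ≤ P → P = q ∨ P = maximalIdeal T := by
    intro P hP hle
    haveI : IsLocalRing (T ⧸ q) := .of_surjective' (Ideal.Quotient.mk q) Ideal.Quotient.mk_surjective
    have hP' : (P.map (Ideal.Quotient.mk q)).IsPrime :=
      Ideal.map_isPrime_of_surjective Ideal.Quotient.mk_surjective (by rwa [Ideal.mk_ker])
    have hbot : (⊥ : Ideal (T ⧸ q)) ∈ minimalPrimes (T ⧸ q) :=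
      ⟨⟨Ideal.isPrime_bot, le_rfl⟩, fun _ _ _ => bot_le⟩
    have hc : (P.map (Ideal.Quotient.mk q)).comap (Ideal.Quotient.mk q) = P := by
      rw [Ideal.comap_map_of_surjective _ Ideal.Quotient.mk_surjective, sup_eq_left]
      exact (le_of_eq Ideal.mk_ker).trans hle
    rcases Branch14.upper_of_dim_le_one hdim.le hbot _ hP' bot_le with h | h
    · exact Or.inl (by rw [← hc, h]; exact Ideal.mk_ker)
    · haveI : IsLocalHom (Ideal.Quotient.mk q) := IsLocalHom.of_surjective _ Ideal.Quotient.mk_surjective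
      exact Or.inr (by rw [← hc, h]; exact IsLocalRing.maximalIdeal_comap _)
  haveI : HenselianLocalRing (Hens.Hh A) := inferInstance
  obtain ⟨hl', hh, hlh', hmap, happ⟩ := Branch14.quotient_hyps (S := Hens.Hh A) (B := T) hsurj hm q'
  haveI : Module.Flat (Hens.Hh A ⧸ q') (T ⧸ q'.map (algebraMap (Hens.Hh A) T)) := Branch14.flat_quotient (B := T) q'
  let π := Ideal.Quotient.mk (q'.map (algebraMap (Hens.Hh A) T))
  haveI : (q.map π).IsPrime := Ideal.map_isPrime_of_surjective Ideal.Quotient.mk_surjective (by rwa [Ideal.mk_ker])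
  have hback : (q.map π).comap π = q := by
    rw [Ideal.comap_map_of_surjective' π Ideal.Quotient.mk_surjective, Ideal.mk_ker, sup_eq_left]
    exact hqI
  have hQ₀ : q.map π ∈ minimalPrimes (T ⧸ q'.map (algebraMap (Hens.Hh A) T)) :=
    ⟨⟨inferInstance, bot_le⟩, fun P hP hle => by
      haveI := hP.1
      refine Ideal.map_le_iff_le_comap.2 (hqmin.2 ⟨inferInstance, ?_⟩ ((Ideal.comap_mono hle).trans hback.le))
      exact Ideal.mk_ker.ge.trans (Ideal.comap_mono bot_le)⟩
  have hup₀ : ∀ P : Ideal (T ⧸ q'.map (algebraMap (Hens.Hh A) T)), P.IsPrime → q.map π ≤ P →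
      P = q.map π ∨ P = maximalIdeal _ := by
    intro P hP hle
    have hP' := Ideal.map_comap_of_surjective π Ideal.Quotient.mk_surjective P
    rcases hup (P.comap π) inferInstance (hback.ge.trans (Ideal.comap_mono hle)) with h | h
    · left; rw [← hP', h]
    · right; rw [← hP', h]
      exact IsLocalRing.map_maximalIdeal_of_surjective _ Ideal.Quotient.mk_surjective
  have hsing := Branch14.minimalPrimes_eq_singleton happ hmap hQ₀ hup₀
  have hrad : (q'.map (algebraMap (Hens.Hh A) T)).radical = q := by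
    rw [← Ideal.sInf_minimalPrimes, Ideal.minimalPrimes_eq_comap, hsing, Set.image_singleton, hback, sInf_singleton]
  haveI : q'.IsPrime := Ideal.IsPrime.comap _
  rw [← dim_quotient_map_eq hm q' Ideal.IsPrime.ne_top', ringKrullDim_quotient,
    ← PrimeSpectrum.zeroLocus_radical, hrad, ← ringKrullDim_quotient, hdim]

theorem main (A : Type u) [CommRing A] [IsNoetherianRing A] [IsLocalRing A]
    (S' : Type u) [CommRing S'] [IsLocalRing S'] [Algebra A S'] [IsLocalHom (algebraMap A S')]
    [Hensel.IsStrictHenselization A S']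
    (T' : Type u) [CommRing T'] [IsLocalRing T'] [Algebra (AdicCompletion (maximalIdeal A) A) T']
    [IsLocalHom (algebraMap (AdicCompletion (maximalIdeal A) A) T')]
    [Hensel.IsStrictHenselization (AdicCompletion (maximalIdeal A) A) T']
    (p : Ideal A) [p.IsPrime] :
    (∃ P ∈ (p.map (algebraMap A S')).minimalPrimes, ringKrullDim (S' ⧸ P) = 1) ↔
    (∃ q ∈ (p.map (algebraMap A (AdicCompletion (maximalIdeal A) A))).minimalPrimes,
      ∃ Q ∈ (q.map (algebraMap (AdicCompletion (maximalIdeal A) A) T')).minimalPrimes, ringKrullDim (T' ⧸ Q) = 1) := by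
  let C := AdicCompletion (maximalIdeal A) A
  haveI : IsNoetherianRing C := CplLocH7.isNoetherianRing_cpl A
  haveI : IsAdicComplete (maximalIdeal C) C := NodeCpl1.isAdicComplete_cpl A
  haveI : IsNoetherianRing S' := Hens.strictHenselization_isNoetherianRing A S'
  haveI : IsNoetherianRing T' := Hens.strictHenselization_isNoetherianRing C T'
  haveI : Module.Flat A S' := Hens.strictHenselization_flat A S'
  haveI : Module.Flat C T' := Hens.strictHenselization_flat C T'
  have hmS : (maximalIdeal A).map (algebraMap A S') = maximalIdeal S' := Hens.strictHenselization_map_maximalIdeal A S'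
  have hmT : (maximalIdeal C).map (algebraMap C T') = maximalIdeal T' := Hens.strictHenselization_map_maximalIdeal C T'
  suffices key : (∃ P ∈ (p.map (algebraMap A S')).minimalPrimes, ringKrullDim (S' ⧸ P) = 1) ↔
      ∃ q ∈ (p.map (algebraMap A C)).minimalPrimes, ringKrullDim (C ⧸ q) = 1 by
    rw [key]
    constructor
    · rintro ⟨q, hq, h⟩
      haveI := hq.1.1
      exact ⟨q, hq, dim_eq_one_up hmT h⟩
    · rintro ⟨q, hq, Q, hQ, h⟩
      haveI := hq.1.1
      refine ⟨q, hq, ?_⟩
      rcases dim_le_one_or_two_le q with h1 | h1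
      · refine le_antisymm h1 (one_le_dim fun e => ne_maximal_of_dim_eq_one h ?_)
        refine le_antisymm (le_maximalIdeal hQ.1.1.ne_top) ?_
        rw [← hmT, ← e]
        exact hQ.1.2
      · have := two_le_up h1 hQ
        rw [h] at this
        exact absurd this (by norm_num)
  constructor
  · rintro ⟨P, hP, h⟩
    haveI := hP.1.1
    obtain ⟨φ, hφ⟩ := Groth.Agent.S16576.exists_cpl_map (A := A) (B := S')
    let Sc := CplLocH7.Cpl S'
    haveI : IsNoetherianRing Sc := CplLocH7.isNoetherianRing_cpl S'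
    haveI : IsLocalRing Sc := inferInstance
    letI : Algebra C Sc := φ.toAlgebra
    haveI : IsScalarTower A C Sc := IsScalarTower.of_algebraMap_eq fun x => by
      rw [IsScalarTower.algebraMap_apply A S' Sc]
      exact (RingHom.congr_fun hφ x).symm
    haveI : Module.Flat C Sc := CplLocH7.flat_iff.2 ‹Module.Flat A S'›
    haveI := CplLocH7.faithfullyFlat_cpl S'
    haveI : IsLocalHom (algebraMap S' Sc) := UCat.isLocalHom_cpl S'
    have hmC : (maximalIdeal C).map (algebraMap C Sc) = maximalIdeal Sc := by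
      rw [show maximalIdeal C = (maximalIdeal A).map (algebraMap A C) from CplLocH7.maximalIdeal_cpl A,
        Ideal.map_map, ← IsScalarTower.algebraMap_eq, IsScalarTower.algebraMap_eq A S' Sc, ← Ideal.map_map, hmS]
      exact (CplLocH7.maximalIdeal_cpl S').symm
    haveI : IsLocalHom (algebraMap C Sc) := ((local_hom_TFAE _).out 2 0 rfl rfl).mp hmC.le
    have hmS' : (maximalIdeal S').map (algebraMap S' Sc) = maximalIdeal Sc := (CplLocH7.maximalIdeal_cpl S').symm
    obtain ⟨Q, hQ, hQd⟩ := dim_eq_one_up hmS' h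
    haveI := hQ.1.1
    have hQp : Q ∈ ((p.map (algebraMap A C)).map (algebraMap C Sc)).minimalPrimes := by
      have := mem_minimalPrimes_trans hP hQ
      rwa [Ideal.map_map, ← IsScalarTower.algebraMap_eq, IsScalarTower.algebraMap_eq A C Sc, ← Ideal.map_map] at this
    let q := Q.comap (algebraMap C Sc)
    have hq := comap_mem_minimalPrimes _ hQp
    haveI : q.IsPrime := Ideal.IsPrime.comap _
    refine ⟨q, hq, ?_⟩
    have hQq : Q ∈ (q.map (algebraMap C Sc)).minimalPrimes :=
      ⟨⟨inferInstance, Ideal.map_comap_le⟩, fun J hJ hle => hQp.2 ⟨hJ.1, (Ideal.map_mono hq.1.2).trans hJ.2⟩ hle⟩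
    rcases dim_le_one_or_two_le q with h1 | h1
    · refine le_antisymm h1 (one_le_dim fun e => ne_maximal_of_dim_eq_one hQd ?_)
      refine le_antisymm (le_maximalIdeal hQ.1.1.ne_top) ?_
      rw [← hmC, ← e]
      exact hQq.1.2
    · have := two_le_up h1 hQq
      rw [hQd] at this
      exact absurd this (by norm_num)
  · rintro ⟨q, hq, h⟩
    obtain ⟨q', hq', h'⟩ := exists_henselian_prime A p q hq h
    haveI := hq'.1.1
    haveI : HenselianLocalRing S' := Hensel.IsStrictHenselization.henselian (R := A)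
    obtain ⟨σ, -, -⟩ := Hens.existsUnique_hh_lift (R := A) S'
    haveI : IsNoetherianRing (Hens.Hh A) := Hens.henselization_isNoetherianRing A (Hens.Hh A)
    letI : Algebra (Hens.Hh A) S' := σ.toRingHom.toAlgebra
    haveI : IsScalarTower A (Hens.Hh A) S' := IsScalarTower.of_algebraMap_eq fun a => (σ.commutes a).symm
    haveI : IsLocalHom (algebraMap (Hens.Hh A) S') := Branch14.isLocalHom_of_algHom σ
    haveI : Module.Flat (Hens.Hh A) S' := Branch14.flat_of_algHom σ
    have hm : (maximalIdeal (Hens.Hh A)).map (algebraMap (Hens.Hh A) S') = maximalIdeal S' := by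
      rw [← Hens.henselization_map_maximalIdeal A (Hens.Hh A), Ideal.map_map, ← IsScalarTower.algebraMap_eq, hmS]
    obtain ⟨P, hP, hd⟩ := dim_eq_one_up hm h'
    refine ⟨P, ?_, hd⟩
    have := mem_minimalPrimes_trans hq' hP
    rwa [Ideal.map_map, ← IsScalarTower.algebraMap_eq] at this

end Groth.Agent.ImmGen6
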