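import Groth.Agent.Lib.ImmGen6.Basic
import Groth.Agent.Lib.Branch14.Count
import Groth.Agent.Lib.VarDim.Alg
import Mathlib

/-! # The condition c₂ at a point -/

set_option autoImplicit false
universe u
set_option backward.isDefEq.respectTransparency.types false
set_option maxSynthPendingDepth 3
set_option linter.style.haveILetI false

open IsLocalRing TensorProduct

namespace Groth.Agent.ImmGen6

section Good

variable {A : Type u} [CommRing A] [IsLocalRing A] [IsNoetherianRing A]
  {S : Type u} [CommRing S] [IsLocalRing S] [Algebra A S] [IsLocalHom (algebraMap A S)]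

theorem dim_eq_of_good (hg : Branch14.Good A S) (Q : Ideal (CAlg2.normRed A ⊗[A] S))
    (hQ : Q ∈ minimalPrimes (CAlg2.normRed A ⊗[A] S)) (M : Ideal (CAlg2.normRed A ⊗[A] S)) (hM : M.IsMaximal)
    (hQM : Q ≤ M) :
    ringKrullDim (S ⧸ Q.comap (Algebra.TensorProduct.includeRight : S →ₐ[A] CAlg2.normRed A ⊗[A] S).toRingHom) =
      ((M.comap (algebraMap (CAlg2.normRed A) (CAlg2.normRed A ⊗[A] S))).height : WithBot ℕ∞) := by
  have hfin := minimalPrimes.finite_of_isNoetherianRing A
  haveI := hg.flat
  haveI := hQ.1.1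
  let N := CAlg2.normRed A
  let T := CAlg2.normRed A ⊗[A] S
  let ι := (Algebra.TensorProduct.includeRight : S →ₐ[A] CAlg2.normRed A ⊗[A] S).toRingHom
  letI : Algebra S T := ι.toAlgebra
  haveI hint : Algebra.IsIntegral S T := ⟨Hens.isIntegral_includeRight A N S⟩
  let P := Q.comap ι
  letI : Algebra (S ⧸ P) (T ⧸ Q) := (Ideal.quotientMap Q ι le_rfl).toAlgebra
  haveI : Algebra.IsIntegral (S ⧸ P) (T ⧸ Q) := ⟨fun z => by
    obtain ⟨t, rfl⟩ := Ideal.Quotient.mk_surjective z
    obtain ⟨f, hf, hf0⟩ := (Algebra.IsIntegral.isIntegral (R := S) t).map (Ideal.Quotient.mkₐ S Q)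
    exact ⟨f.map (Ideal.Quotient.mk P), hf.map _, by rw [Polynomial.eval₂_map]; exact hf0⟩⟩
  have h1 : ringKrullDim (T ⧸ Q) = ringKrullDim (S ⧸ P) :=
    VarDim.ringKrullDim_eq_of_isIntegral (Ideal.quotientMap_injective' le_rfl)
  haveI := hM.isPrime
  let Mp : PrimeSpectrum T := ⟨M, hM.isPrime⟩
  have hset : PrimeSpectrum.zeroLocus (Q : Set T) = Set.Iic Mp := by
    ext x
    constructor
    · intro hx
      obtain ⟨M₁, hM₁, hle⟩ := Ideal.exists_le_maximal x.asIdeal x.isPrime.ne_top
      obtain ⟨M₀, -, huniq⟩ := hg.existsUnique_maximal Q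
      have e1 := huniq M₁ ⟨hM₁, le_trans (show Q ≤ x.asIdeal from hx) hle⟩
      have e2 := huniq M ⟨hM, hQM⟩
      show x.asIdeal ≤ M
      rw [e2, ← e1]; exact hle
    · intro hx
      obtain ⟨Q₁, hQ₁, hle⟩ := Ideal.exists_minimalPrimes_le (bot_le : (⊥ : Ideal T) ≤ x.asIdeal)
      obtain ⟨Q₀, -, huniq⟩ := hg.existsUnique_minimal hfin M
      have e1 := huniq Q₁ ⟨hQ₁, hle.trans (show x.asIdeal ≤ M from hx)⟩
      have e2 := huniq Q ⟨hQ, hQM⟩
      show Q ≤ x.asIdeal
      rw [e2, ← e1]; exact hle
  have h2 : ringKrullDim (T ⧸ Q) = (M.height : WithBot ℕ∞) := by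
    rw [ringKrullDim_quotient, hset, ← Order.height_eq_krullDim_Iic, PrimeSpectrum.height_eq_orderHeight Mp]
  rw [← h1, h2]
  congr 1
  refine le_antisymm ?_ ?_
  · have hmono : StrictMono (PrimeSpectrum.comap (algebraMap N T)) := by
      intro x y hxy
      refine lt_of_le_of_ne (Ideal.comap_mono hxy.le) fun e => hxy.ne ?_
      have hA : (x.asIdeal.comap ι).comap (algebraMap A S) = (y.asIdeal.comap ι).comap (algebraMap A S) := by
        rw [Ideal.comap_comap, Ideal.comap_comap,
          show ι.comp (algebraMap A S) = (algebraMap N T).comp (algebraMap A N) from by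
            refine RingHom.ext fun a => ?_
            show (Algebra.TensorProduct.includeRight : S →ₐ[A] N ⊗[A] S) (algebraMap A S a) = _
            rw [AlgHom.commutes, IsScalarTower.algebraMap_apply A N T]; rfl,
          ← Ideal.comap_comap, ← Ideal.comap_comap]
        exact congrArg (fun z : PrimeSpectrum N => z.asIdeal.comap (algebraMap A N)) e
      have hS := hg.inc _ _ inferInstance inferInstance (Ideal.comap_mono (f := ι) hxy.le) hA
      by_contra hne
      haveI := x.isPrime
      exact absurd hS (Ideal.IsIntegral.comap_lt_comap (R := S) (lt_of_le_of_ne hxy.le fun h => hne (PrimeSpectrum.ext h))).ne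
    have := Order.height_le_height_apply_of_strictMono _ hmono Mp
    rwa [← PrimeSpectrum.height_eq_orderHeight, ← PrimeSpectrum.height_eq_orderHeight] at this
  · let mp : PrimeSpectrum N := ⟨M.comap (algebraMap N T), inferInstance⟩
    rw [show (M.comap (algebraMap N T)).height = Order.height mp from PrimeSpectrum.height_eq_orderHeight mp,
      show M.height = Order.height Mp from PrimeSpectrum.height_eq_orderHeight Mp]
    refine Order.height_le fun l hl => ?_
    haveI : M.LiesOver l.last.asIdeal := ⟨by rw [hl]⟩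
    haveI : Module.Flat N T := inferInstance
    obtain ⟨L, hlen, hlast, -⟩ := Ideal.exists_ltSeries_of_hasGoingDown (S := T) l M
    rw [← hlen]
    exact Order.length_le_height (hlast.le)

theorem forall_two_le_iff (hg : Branch14.Good A S) :
    (∀ m' : MaximalSpectrum (CAlg2.normRed A), (2 : WithBot ℕ∞) ≤ ringKrullDim (Localization.AtPrime m'.asIdeal)) ↔
      ∀ P ∈ minimalPrimes S, (2 : WithBot ℕ∞) ≤ ringKrullDim (S ⧸ P) := by
  have hfin := minimalPrimes.finite_of_isNoetherianRing A
  haveI := hg.flat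
  let N := CAlg2.normRed A
  let T := CAlg2.normRed A ⊗[A] S
  let ι := (Algebra.TensorProduct.includeRight : S →ₐ[A] CAlg2.normRed A ⊗[A] S).toRingHom
  have hdim : ∀ (m : Ideal N) [m.IsPrime], ringKrullDim (Localization.AtPrime m) = (m.height : WithBot ℕ∞) :=
    fun m _ => IsLocalization.AtPrime.ringKrullDim_eq_height m _
  constructor
  · intro h P hP
    obtain ⟨Q, hQ, rfl⟩ := (Branch14.bijOn_comap_includeRight A S hg.inc hfin).surjOn hP
    haveI := hQ.1.1
    obtain ⟨M, ⟨hM, hQM⟩, -⟩ := hg.existsUnique_maximal Q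
    haveI := hM
    have hmax : (M.comap (algebraMap N T)).IsMaximal := by
      refine Ideal.isMaximal_of_isIntegral_of_isMaximal_comap (R := A) _ ?_
      rw [Ideal.comap_comap, ← IsScalarTower.algebraMap_eq,
        show algebraMap A T = ι.comp (algebraMap A S) from RingHom.ext fun a =>
          ((Algebra.TensorProduct.includeRight : S →ₐ[A] N ⊗[A] S).commutes a).symm,
        ← Ideal.comap_comap, show M.comap ι = maximalIdeal S from hg.comap_eq_maximalIdeal M,
        IsLocalRing.maximalIdeal_comap]
      infer_instance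
    rw [dim_eq_of_good hg Q hQ M hM hQM, ← hdim]
    exact h ⟨_, hmax⟩
  · intro h m'
    haveI : Module.FaithfullyFlat A S := Module.FaithfullyFlat.of_flat_of_isLocalHom
    obtain ⟨M₀, hM₀⟩ := PrimeSpectrum.comap_surjective_of_faithfullyFlat (A := N) (B := T)
      ⟨m'.asIdeal, m'.isMaximal.isPrime⟩
    obtain ⟨M, hM, hle⟩ := Ideal.exists_le_maximal M₀.asIdeal M₀.isPrime.ne_top
    haveI := hM
    have hMm : m'.asIdeal = M.comap (algebraMap N T) := m'.isMaximal.eq_of_le
      (Ideal.comap_ne_top _ hM.ne_top) ((le_of_eq (congrArg PrimeSpectrum.asIdeal hM₀).symm).trans (Ideal.comap_mono hle))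
    obtain ⟨Q, ⟨hQ, hQM⟩, -⟩ := hg.existsUnique_minimal hfin M
    have hP := (Branch14.bijOn_comap_includeRight A S hg.inc hfin).mapsTo hQ
    have := h _ hP
    rw [dim_eq_of_good hg Q hQ M hM hQM, ← hMm, ← hdim] at this
    exact this

end Good

theorem cTwo_tfae (A : Type u) [CommRing A] [IsNoetherianRing A] [IsLocalRing A]
    (S : Type u) [CommRing S] [IsLocalRing S] [Algebra A S] [IsLocalHom (algebraMap A S)]
    [Hensel.IsHenselization A S]
    (S' : Type u) [CommRing S'] [IsLocalRing S'] [Algebra A S'] [IsLocalHom (algebraMap A S')]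
    [Hensel.IsStrictHenselization A S'] :
    List.TFAE [
      ∀ m' : MaximalSpectrum (CAlg2.normRed A), (2 : WithBot ℕ∞) ≤ ringKrullDim (Localization.AtPrime m'.asIdeal),
      ∀ p ∈ minimalPrimes S, (2 : WithBot ℕ∞) ≤ ringKrullDim (S ⧸ p),
      ∀ p ∈ minimalPrimes S', (2 : WithBot ℕ∞) ≤ ringKrullDim (S' ⧸ p),
      ∀ q ∈ minimalPrimes (AdicCompletion (IsLocalRing.maximalIdeal A) A), (2 : WithBot ℕ∞) ≤ ringKrullDim (AdicCompletion (IsLocalRing.maximalIdeal A) A ⧸ q)] := by
  tfae_have 1 ↔ 2 := forall_two_le_iff (Branch14.good_henselization A S)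
  tfae_have 1 ↔ 3 := forall_two_le_iff (Branch14.good_strictHenselization A S')
  tfae_have 4 → 3 := by
    intro h P hP
    haveI := hP.1.1
    haveI : IsNoetherianRing S' := Hens.strictHenselization_isNoetherianRing A S'
    haveI : Module.Flat A S' := Hens.strictHenselization_flat A S'
    have h' := Groth.Agent.S16576.result A S' (algebraMap A S') (RingHom.flat_algebraMap_iff.mpr inferInstance) h
    let Sc := AdicCompletion (maximalIdeal S') S'
    haveI : IsNoetherianRing Sc := CplLocH7.isNoetherianRing_cpl S'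
    haveI := CplLocH7.faithfullyFlat_cpl S'
    haveI : IsLocalHom (algebraMap S' Sc) := UCat.isLocalHom_cpl S'
    obtain ⟨Q, hQ⟩ := UCat.exists_minimalPrime_map (B := Sc) P Ideal.IsPrime.ne_top'
    have hP0 : P ∈ (⊥ : Ideal S').minimalPrimes := hP
    have hQmin := mem_minimalPrimes_trans hP0 hQ
    rw [Ideal.map_bot] at hQmin
    refine (h' Q hQmin).trans ?_
    rw [← dim_quotient_map_eq (CplLocH7.maximalIdeal_cpl S').symm P Ideal.IsPrime.ne_top']
    exact ringKrullDim_le_of_surjective (Ideal.Quotient.factor hQ.1.2) (Ideal.Quotient.factor_surjective _)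
  tfae_have 1 → 4 := by
    intro h q hq
    haveI := hq.1.1
    let C := AdicCompletion (maximalIdeal A) A
    haveI : IsNoetherianRing C := CplLocH7.isNoetherianRing_cpl A
    have hH := (forall_two_le_iff (Branch14.good_henselization A (Hens.Hh A))).mp h
    rcases dim_le_one_or_two_le q with h1 | h1
    · exfalso
      by_cases hqm : q = maximalIdeal C
      · -- dimension zero
        have hdim0 : ringKrullDim C ≤ 0 := by
          refine (Ring.krullDimLE_iff (n := 0)).mp (Ring.krullDimLE_zero_iff.mpr fun P hP => ?_)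
          have hle : P ≤ q := hqm ▸ le_maximalIdeal hP.ne_top
          rw [le_antisymm hle (hq.2 ⟨hP, bot_le⟩ hle), hqm]
          infer_instance
        haveI := CplLocH7.faithfullyFlat_cpl A
        haveI : IsLocalHom (algebraMap A C) := UCat.isLocalHom_cpl A
        haveI : IsNoetherianRing (Hens.Hh A) := Hens.henselization_isNoetherianRing A (Hens.Hh A)
        haveI := Hens.henselization_flat A (Hens.Hh A)
        obtain ⟨P, hP⟩ := UCat.exists_minimalPrime_map (B := Hens.Hh A) (⊥ : Ideal A) bot_ne_top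
        rw [Ideal.map_bot] at hP
        have h2 : (2 : WithBot ℕ∞) ≤ ringKrullDim (Hens.Hh A) :=
          (hH P hP).trans (ringKrullDim_quotient_le P)
        have h3 := dim_quotient_map_eq (B := Hens.Hh A) (Hens.henselization_map_maximalIdeal A (Hens.Hh A)) (⊥ : Ideal A) bot_ne_top
        have h4 := dim_quotient_map_eq (B := C) (CplLocH7.maximalIdeal_cpl A).symm (⊥ : Ideal A) bot_ne_top
        rw [Ideal.map_bot, ringKrullDim_eq_of_ringEquiv (RingEquiv.quotientBot A),
          ringKrullDim_eq_of_ringEquiv (RingEquiv.quotientBot (Hens.Hh A))] at h3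
        rw [Ideal.map_bot, ringKrullDim_eq_of_ringEquiv (RingEquiv.quotientBot A),
          ringKrullDim_eq_of_ringEquiv (RingEquiv.quotientBot C)] at h4
        rw [h3, ← h4] at h2
        exact absurd (h2.trans hdim0) (by norm_num)
      · have h1' : ringKrullDim (C ⧸ q) = 1 := le_antisymm h1 (one_le_dim hqm)
        obtain ⟨q', hq', hd⟩ := exists_henselian_prime A (⊥ : Ideal A) q (by rw [Ideal.map_bot]; exact hq) h1'
        rw [Ideal.map_bot] at hq'
        have := hH q' hq'
        rw [hd] at this
        exact absurd this (by norm_num)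
    · exact h1
  tfae_finish

end Groth.Agent.ImmGen6
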